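import Cfsg.Agent.Helper11.SchSz8.Tab

set_option autoImplicit false
set_option linter.all false
set_option maxRecDepth 1000000
set_option maxHeartbeats 0

namespace Cfsg.Agent.Helper11.SchSz8

theorem okT0 : OKT (0 * 20000) 20000 := by decide +kernel
theorem okF0 : OKF [0, 2, 0, 2, 1, 2, 0, 0, 3, 3, 3, 3, 0] 236 151997330017124586671663269552887629889658498724864 := by decide +kernel
theorem okF1 : OKF [0, 2, 0, 2, 1, 2, 0, 0, 3, 3, 3, 3, 0] 1569 151974493879815390222050136139213042586438598800384 := by decide +kernel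
theorem okF2 : OKF [0, 2, 0, 2, 1, 2, 0, 0, 3, 3, 3, 3, 0] 36 151997330104236207989425546370322622152376659883008 := by decide +kernel
theorem okF3 : OKF [0, 0, 2, 0, 2, 1, 3, 3, 3, 3, 1, 2, 2, 0] 247 163712268456739047445587412697390742630227943372800 := by decide +kernel
theorem okF4 : OKF [0, 2, 0, 2, 1, 2, 0, 0, 3, 3, 3, 3, 0] 1395 151997330017123257433526279834598601815665328403456 := by decide +kernel
theorem okF5 : OKF [0, 0, 3, 3, 3, 0, 3, 0, 3, 1, 2, 2, 2, 0] 39 163655178287693951255064418689993517401659194750976 := by decide +kernel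
theorem okF6 : OKF [0, 2, 0, 2, 1, 2, 0, 0, 3, 3, 3, 3, 0] 2019 151997330191351816991175371363212318523546895660032 := by decide +kernel
theorem okF7 : OKF [0, 0, 2, 2, 1, 3, 3, 0, 2, 2, 1, 1, 2, 0] 1259 163678014163669612984456876854391585572701255645184 := by decide +kernel

end Cfsg.Agent.Helper11.SchSz8
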