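import Mathlib
import Cfsg.Agent.Helper11.SchSz8.Inst
import Cfsg.Agent.Helper11.SchSz8M1.MFacts
import Cfsg.Agent.Helper11.SchSz8M2.MFacts
import Cfsg.Agent.Helper23.Schur2.Final

/-! Final assembly for a group of order 29120 generated by two elements satisfying `rels`:
upper half from the labelled Todd–Coxeter certificate, existence half from two cyclically labelled
coset tables (helper19's pipeline, helper23's two-factor form); generated by helper11's `emit_all.py`. -/

set_option autoImplicit false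
set_option linter.all false
set_option maxRecDepth 100000

namespace Cfsg.Agent.Helper11.SchSz8

open Cfsg Cfsg.Agent.Helper19.TCS Cfsg.Agent.Helper19.TCL
  Cfsg.Agent.Helper19.TCM Cfsg.Agent.Helper19.Schur Cfsg.Agent.Helper23.Schur2

universe u

def c1m : Fin 10 → ℤ := ![0, 0, -1, 1, 0, 1, 0, 0, 0, 0]
def c2m : Fin 10 → ℤ := ![0, 0, 0, 0, 0, -1, 0, 2, 0, 0]

theorem relsM1_eq : Cfsg.Agent.Helper11.SchSz8M1.relsM = rels := by decide

theorem relsM2_eq : Cfsg.Agent.Helper11.SchSz8M2.relsM = rels := by decide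

/-- a group of order `29120` generated by two elements satisfying the relators has Schur
multiplier `ℤ/2 × ℤ/2`. -/
theorem schur_of_gens {G : Type u} [Group G] (hcard : Nat.card G = 29120) (x y : G)
    (hxy : Subgroup.closure {x, y} = (⊤ : Subgroup G))
    (hrel : ∀ w ∈ rels, prodw (gc2 x y) w = 1) :
    Cfsg.HasSchurMultiplier G (Multiplicative (ZMod 2 × ZMod 2)) := by
  haveI : Finite G := Nat.finite_of_card_ne_zero (by rw [hcard]; norm_num)
  have hT1' : ∀ (Δ : Type u) [Group Δ] (a b : Δ), Subgroup.closure {a, b} = (⊤ : Subgroup Δ) →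
      (∀ w ∈ rels, prodw (gc2 a b) w = 1) → Finite Δ ∧ Nat.card Δ ≤ Nat.card G := by
    intro Δ _ a b h1 h2
    rw [hcard]
    exact hT1 Δ a b h1 h2
  have hM1 := Cfsg.Agent.Helper11.SchSz8M1.relsM_ok
  rw [relsM1_eq] at hM1
  have hM2 := Cfsg.Agent.Helper11.SchSz8M2.relsM_ok
  rw [relsM2_eq] at hM2
  apply hasSchurMultiplier_of_halves
  · exact exists_stem_of_table2 x y hxy rels hT1' hrel
      Cfsg.Agent.Helper11.SchSz8M1.modelOK Cfsg.Agent.Helper11.SchSz8M2.modelOK
      (by norm_num) (by norm_num)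
      Cfsg.Agent.Helper11.SchSz8M1.phisM Cfsg.Agent.Helper11.SchSz8M2.phisM
      (by decide) (by decide) (by decide) hM1 hM2 10 e1 e2 c1m c2m he1 he2
      (by constructor <;> rw [Efun_eq] <;> decide) (by constructor <;> rw [Efun_eq] <;> decide)
      (by rw [sum_univ_n10]; decide) (by rw [sum_univ_n10]; decide)
      (by rw [sum_univ_n10]; decide) (by rw [sum_univ_n10]; decide)
      [8] [6] (by decide) (by decide) (by decide) (by decide)
  · exact exists_surjective_of_stem2 x y hxy rels 10 (by decide) hrel hT1' 8 lam hT2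
      e1 e2 he1 he2 c1 c2 g01 g02 2 2 hc1 hc2 hg01 hg02 hL1 hL2a hL2b

end Cfsg.Agent.Helper11.SchSz8

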